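import Cfsg.Agent.Lib.HeldTri.Generated.Codes.Defs
import Cfsg.Agent.Lib.HeldTri.Generated.Codes.Tables
import Cfsg.Agent.Lib.HeldTri.Affine.Data

/-!
Kernel checks for the vector stabiliser: the complement, and the centraliser of the elementary group.
-/

set_option autoImplicit false
set_option maxRecDepth 100000
set_option Elab.async false

namespace CfsgLib.HeldTri.Affine

open CfsgLib.HeType.Cert CfsgLib.HeldTri.Gen

/-- The codes of the elementary group. -/
def eList : List ℕ := [0, 1, 2, 3, 4, 5, 6, 7, 64, 65, 66, 67, 68, 69, 70, 71]

/-- The code of a vector. -/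
def vecCode (n : ℕ) : ℕ := n % 8 + 64 * (n / 8 % 2)

/-- A product of generators of the complement. -/
def compProd (w : List ℕ) : ℕ := w.foldr (fun i p => fMul (compGens.getD i 0) p) 0

/-- The set of bits of the complement. -/
def inComp (c : ℕ) : Bool := compMask.testBit c

theorem comp_closed : (compList.all fun c => Nat.blt c 21504 &&
    compGens.all fun g => inComp (fMul c g)) = true := by
  decide +kernel

theorem comp_check : inComp 0 = true ∧ compList.foldl (fun m c => m ||| 2 ^ c) 0 = compMask ∧
    (compList.all fun c => c == 0 || !(eList.contains c)) = true ∧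
    (compWords.all fun e => (fMul e.2.1 (compProd e.2.2) == e.1) && eList.contains e.2.1 &&
      e.2.2.all fun i => Nat.blt i 4) = true ∧
    ([1, 2, 4, 8, 16, 32, 64, 128, 256, 384].all fun c => compWords.any fun e => e.1 == c) = true := by
  decide +kernel

theorem mem_of_foldl (L : List ℕ) : ∀ (m c : ℕ),
    (L.foldl (fun m c => m ||| 2 ^ c) m).testBit c = true → m.testBit c = true ∨ c ∈ L := by
  induction L with
  | nil => exact fun m c h => Or.inl h
  | cons d L ih =>
    intro m c h
    rcases ih _ c h with h | h
    · rw [Nat.testBit_or, Bool.or_eq_true, Nat.testBit_two_pow, decide_eq_true_eq] at h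
      rcases h with h | rfl
      · exact Or.inl h
      · exact Or.inr List.mem_cons_self
    · exact Or.inr (List.mem_cons_of_mem _ h)

theorem mem_of_inComp {c : ℕ} (h : inComp c = true) : c ∈ compList := by
  have h' := mem_of_foldl compList 0 c (comp_check.2.1.symm ▸ h)
  simpa using h'

/-- A class may fix the three generators modulo the central involution. -/
def mayFix (l : ℕ) : Bool := [1, 2, 4].all fun e =>
  fMul (128 * l) e == fMul e (128 * l) || fMul (128 * l) e == fMul (e + 64) (128 * l)

theorem self_check : ((List.range 168).all fun l => !(mayFix l) || (List.range 128).all fun v =>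
      !([1, 2, 4].all fun e => com (v + 128 * l) e) || eList.contains (v + 128 * l)) = true ∧
    ((List.range 128).all fun v => [1, 2, 4].all fun e =>
      fMul v e == fMul e v || fMul v e == fMul (e + 64) v) = true := by decide +kernel

theorem vec_check : ((List.range 16).all fun n => (List.range 16).all fun m =>
      fMul (vecCode n) (vecCode m) == vecCode (n ^^^ m)) = true ∧
    ((List.range 16).all fun n => eList.contains (vecCode n)) = true := by decide +kernel

end CfsgLib.HeldTri.Affine
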