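import Cfsg.Agent.Lib.HeldTri.Affine.Model
import Cfsg.Agent.Lib.HeldTri.Affine.Check
import Cfsg.Agent.Lib.HeldTri.Generated.NormalCodes
import Cfsg.Agent.Lib.HeldTri.Generated.Odd
import Cfsg.Agent.Lib.HeldTri.Entry.Main
import Cfsg.Agent.Lib.Solvable.Gaschutz

/-!
The pattern in which only one class is fused: the vector stabiliser of SL(5, 2).
-/

set_option autoImplicit false
set_option linter.unusedSectionVars false
set_option maxRecDepth 100000

namespace CfsgLib.HeldTri

open CfsgLib.HeType CfsgLib.HeType.Cert Gen Subgroup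

variable {G : Type*} [Group G] [Finite G] {t : G} {Q : Subgroup G} {x y r : G} {a b : ℕ → G}

namespace Affine

/-- The number of a vector. -/
def vecNum (v : V4) : ℕ := (v 0).val + 2 * (v 1).val + 4 * (v 2).val + 8 * (v 3).val

theorem vecNum_add : ∀ v w : V4, vecNum (v + w) = vecNum v ^^^ vecNum w ∧ vecNum v < 16 := by decide +kernel

theorem vecNum_inj : ∀ v w : V4, vecCode (vecNum v) = vecCode (vecNum w) → v = w := by decide +kernel

theorem eList_vec : ∀ c ∈ eList, ∃ v : V4, vecCode (vecNum v) = c := by decide +kernel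

theorem eList_lt : ∀ c ∈ eList, c < 21504 := by decide

theorem compGens_lt : ∀ i < 4, compGens.getD i 0 < 21504 := by decide

variable (C : Coords t Q R0 true x y r a b)
include C

theorem eList_eq : eList = w1List := rfl

theorem vecCode_lt (n : ℕ) : vecCode n < 21504 := by unfold vecCode; omega

theorem self_centralising {z : G} (hzt : z * t = t * z)
    (hz : ∀ e ∈ eList, z * cEl t a b x y r e = cEl t a b x y r e * z) : z ∈ wOne t a b x y r := by
  obtain ⟨c, hc, rfl⟩ := exists_code C hzt
  set l := c / 128 with hl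
  set v := c % 128 with hv
  have hv' : v < 128 := Nat.mod_lt _ (by norm_num)
  have hl' : l < 168 := by omega
  have hL : 128 * l < 21504 := by omega
  have hcv : v + 128 * l = c := Nat.mod_add_div c 128
  have hsplit : cEl t a b x y r c = cEl t a b x y r v * cEl t a b x y r (128 * l) := by
    rw [E_qEl C hv']
    simp only [cEl, Nat.mul_mod_right, Nat.mul_div_cancel_left _ (show 0 < 128 by norm_num), C.frame.el_zero, one_mul,
      hl, hv]
  have hfix : mayFix l = true := by
    simp only [mayFix, List.all_eq_true, Bool.or_eq_true, beq_iff_eq]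
    intro e he
    have he' : e ∈ eList ∧ e + 64 ∈ eList ∧ e < 21504 ∧ e + 64 < 21504 := by
      simp only [List.mem_cons, List.not_mem_nil, or_false] at he
      rcases he with rfl | rfl | rfl <;> decide
    have h := List.all_eq_true.1 (List.all_eq_true.1 self_check.2 v (List.mem_range.2 hv')) e he
    simp only [Bool.or_eq_true, beq_iff_eq] at h
    have hz' := hz e he'.1
    rw [hsplit] at hz'
    have h64 : cEl t a b x y r (e + 64) = cEl t a b x y r e * t := by
      have h1 := (E_mul C he'.2.2.1 (show 64 < 21504 by norm_num)).1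
      rw [E_top C] at h1
      rw [h1]
      simp only [List.mem_cons, List.not_mem_nil, or_false] at he
      rcases he with rfl | rfl | rfl <;> exact congrArg _ (by decide +kernel)
    have key : ∀ f : G, cEl t a b x y r v * f = cEl t a b x y r e * cEl t a b x y r v →
        cEl t a b x y r (128 * l) * cEl t a b x y r e = f * cEl t a b x y r (128 * l) := by
      intro f hf
      apply mul_left_cancel (a := cEl t a b x y r v)
      rw [← mul_assoc, ← mul_assoc, hf]
      exact hz'.trans (by rw [mul_assoc])
    have hinj : ∀ f < 21504, cEl t a b x y r (128 * l) * cEl t a b x y r e =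
        cEl t a b x y r f * cEl t a b x y r (128 * l) → fMul (128 * l) e = fMul f (128 * l) := fun f hf h => by
      rw [(E_mul C hL he'.2.2.1).1, (E_mul C hf hL).1] at h
      exact C.cEl_inj (E_mul C hL he'.2.2.1).2 (E_mul C hf hL).2 h
    rcases h with h | h
    · left
      refine hinj e he'.2.2.1 (key _ ?_)
      rw [(E_mul C (by omega) he'.2.2.1).1, h, ← (E_mul C he'.2.2.1 (by omega)).1]
    · right
      refine hinj _ he'.2.2.2 (key _ ?_)
      have h1 : cEl t a b x y r v * cEl t a b x y r e = cEl t a b x y r (e + 64) * cEl t a b x y r v := by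
        rw [(E_mul C (by omega) he'.2.2.1).1, h, ← (E_mul C he'.2.2.2 (by omega)).1]
      rw [h64, ← mul_assoc, h1, h64, mul_assoc (cEl t a b x y r e) t, ← E_comm_t C v, ← mul_assoc, mul_assoc _ t t,
        C.frame.tt, mul_one]
  have h := List.all_eq_true.1 self_check.1 l (List.mem_range.2 hl')
  simp only [hfix, Bool.not_true, Bool.false_or, List.all_eq_true] at h
  have h2 := h v (List.mem_range.2 hv')
  rw [hcv] at h2
  simp only [Bool.or_eq_true, Bool.not_eq_true', List.all_eq_false] at h2
  rcases h2 with ⟨e, he, h2⟩ | h2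
  · have he' : e ∈ eList ∧ e < 21504 := by
      simp only [List.mem_cons, List.not_mem_nil, or_false] at he
      rcases he with rfl | rfl | rfl <;> decide
    exact absurd ((com_iff C hc he'.2).2 (hz e he'.1)) h2
  · exact (mem_wOne C).2 ⟨c, List.contains_iff_mem.1 h2, rfl⟩

theorem exists_complement (hN : (wOne t a b x y r).Normal) (hidx : (centralizer ({t} : Set G)).index = 15) :
    ∃ A : Subgroup G, Subgroup.IsComplement' (wOne t a b x y r) A := by
  obtain ⟨h0, -, hdis, hwords, hall⟩ := comp_check
  have hclo := comp_closed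
  set E := wOne t a b x y r with hE
  set A0 := closure ((fun i => cEl t a b x y r (compGens.getD i 0)) '' {i | i < 4}) with hA0
  have hlt : ∀ c ∈ compList, c < 21504 := fun c hc => by
    have := List.all_eq_true.1 hclo c hc
    simp only [Bool.and_eq_true, Nat.blt_eq] at this
    exact this.1
  have hA0mem : ∀ g ∈ A0, ∃ c ∈ compList, cEl t a b x y r c = g := by
    let M : Submonoid G :=
      { carrier := {g | ∀ c ∈ compList, ∃ d ∈ compList, cEl t a b x y r c * g = cEl t a b x y r d}
        one_mem' := fun c hc => ⟨c, hc, mul_one _⟩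
        mul_mem' := fun {g h} hg hh c hc => by
          obtain ⟨d, hd, e1⟩ := hg c hc
          obtain ⟨f, hf, e2⟩ := hh d hd
          exact ⟨f, hf, by rw [← mul_assoc, e1, e2]⟩ }
    intro g hg
    have hgM : g ∈ M := by
      have hle : A0.toSubmonoid ≤ M := by
        rw [hA0, closure_toSubmonoid_of_finite, Submonoid.closure_le]
        rintro _ ⟨i, hi, rfl⟩ c hc
        have h1 := List.all_eq_true.1 hclo c hc
        simp only [Bool.and_eq_true, List.all_eq_true] at h1
        have hi' : i < 4 := hi
        refine ⟨_, mem_of_inComp (h1.2 (compGens.getD i 0) ?_), (E_mul C (hlt c hc) (compGens_lt i hi')).1⟩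
        interval_cases i <;> decide
      exact hle hg
    obtain ⟨d, hd, e⟩ := hgM 0 (mem_of_inComp h0)
    exact ⟨d, hd, by rw [← e, C.cEl_one, one_mul]⟩
  have hA0t : A0 ≤ centralizer ({t} : Set G) := (closure_le _).2 (by rintro _ ⟨i, -, rfl⟩; exact C.cEl_mem)
  have hEt : E ≤ centralizer ({t} : Set G) := (closure_le _).2 (by rintro _ ⟨c, -, rfl⟩; exact C.cEl_mem)
  have hprod : ∀ w : List ℕ, (∀ i ∈ w, i < 4) → cEl t a b x y r (compProd w) ∈ A0 ∧ compProd w < 21504 := by
    intro w
    induction w with
    | nil => exact fun _ => ⟨by simp only [compProd, List.foldr_nil, C.cEl_one, one_mem], by norm_num [compProd]⟩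
    | cons i w ih =>
      intro hw
      obtain ⟨h1, h2⟩ := ih fun j hj => hw j (List.mem_cons_of_mem _ hj)
      have hi := hw i List.mem_cons_self
      have e := E_mul C (compGens_lt i hi) h2
      simp only [compProd, List.foldr_cons] at e ⊢
      exact ⟨e.1 ▸ mul_mem (subset_closure ⟨i, hi, rfl⟩) h1, e.2⟩
  have hmem : ∀ c ∈ [1, 2, 4, 8, 16, 32, 64, 128, 256, 384], cEl t a b x y r c ∈ E ⊔ A0 := by
    intro c hc
    obtain ⟨⟨c', w, u⟩, hm, he⟩ := List.any_eq_true.1 (List.all_eq_true.1 hall c hc)
    obtain rfl : c' = c := eq_of_beq he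
    have h := List.all_eq_true.1 hwords _ hm
    simp only [Bool.and_eq_true, beq_iff_eq, List.contains_iff_mem, List.all_eq_true, Nat.blt_eq] at h
    obtain ⟨⟨h1, h2⟩, h3⟩ := h
    obtain ⟨h4, h5⟩ := hprod u h3
    rw [← h1, ← (E_mul C (eList_lt w h2) h5).1]
    exact mul_mem (mem_sup_left ((mem_wOne C).2 ⟨w, h2, rfl⟩)) (mem_sup_right h4)
  have hsup : E ⊔ A0 = centralizer ({t} : Set G) := by
    refine le_antisymm (sup_le hEt hA0t) ?_
    rw [← C.gen]
    have hq : ∀ i < 7, qEl t a b (2 ^ i) ∈ E ⊔ A0 := fun i hi => by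
      rw [← E_qEl C (show 2 ^ i < 128 by interval_cases i <;> norm_num)]
      exact hmem _ (by interval_cases i <;> decide)
    refine sup_le ?_ ((closure_le _).2 ?_)
    · intro u hu
      obtain ⟨n, -, rfl⟩ := (C.hQ u).1 hu
      have ha : ∀ i < 3, a i ∈ E ⊔ A0 := fun i hi => by
        have := hq i (by omega)
        rwa [C.frame.el_a hi] at this
      have hb : ∀ i < 3, b i ∈ E ⊔ A0 := fun i hi => by
        have := hq (3 + i) (by omega)
        rwa [C.frame.el_b hi] at this
      have ht' : t ∈ E ⊔ A0 := by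
        have := hq 6 (by norm_num)
        rwa [show (2 : ℕ) ^ 6 = 64 by norm_num, C.frame.el_top] at this
      simp only [qEl, p3, tB]
      refine mul_mem (mul_mem (mul_mem (mul_mem ?_ ?_) ?_) (mul_mem (mul_mem ?_ ?_) ?_)) ?_
      all_goals split_ifs <;> first | exact one_mem _ | exact ht' | exact ha _ (by norm_num) | exact hb _ (by norm_num)
    · have hlow : ∀ c, c = 128 ∨ c = 256 ∨ c = 384 → cEl t a b x y r c = gL x y r (c / 128 - 1) := by
        rintro c (rfl | rfl | rfl) <;>
          simp only [cEl, Nat.reduceMod, Nat.reduceDiv, Nat.reduceSub, C.frame.el_zero, lPaths_gen.2.1, lPaths_gen.2.2.1,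
            lPaths_gen.2.2.2, lWord, List.map_cons, List.map_nil, List.prod_cons, List.prod_nil, mul_one, one_mul]
      rintro g (rfl | rfl | rfl)
      · have := hmem 128 (by decide)
        rw [hlow 128 (by simp)] at this
        simpa [gL] using this
      · have := hmem 256 (by decide)
        rw [hlow 256 (by simp)] at this
        simpa [gL] using this
      · have := hmem 384 (by decide)
        rw [hlow 384 (by simp)] at this
        simpa [gL] using this
  have hinf : A0 ⊓ E = ⊥ := by
    rw [eq_bot_iff]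
    rintro g ⟨hg, hgE⟩
    obtain ⟨c, hc, rfl⟩ := hA0mem g hg
    obtain ⟨d, hd, e⟩ := (mem_wOne C).1 hgE
    have hcd := C.cEl_inj (eList_lt d hd) (hlt c hc) e
    subst hcd
    have := List.all_eq_true.1 hdis d hc
    simp only [Bool.or_eq_true, beq_iff_eq, Bool.not_eq_true'] at this
    rcases this with rfl | this
    · exact mem_bot.2 C.cEl_one
    · rw [show eList.contains d = true from List.contains_iff_mem.2 hd] at this; simp at this
  haveI := hN
  have hab : ∀ u ∈ E, ∀ v ∈ E, u * v = v * u := by
    intro u hu v hv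
    obtain ⟨c, hc, rfl⟩ := (mem_wOne C).1 hu
    obtain ⟨d, hd, rfl⟩ := (mem_wOne C).1 hv
    refine (com_iff C (eList_lt c hc) (eList_lt d hd)).1 ?_
    exact (by decide +kernel : ∀ c ∈ eList, ∀ d ∈ eList, com c d = true) c hc d hd
  refine CfsgLib.Solvable.gaschutz_exists E _ hab hEt ?_ A0 hA0t hinf hsup
  have h16 : Nat.card ↥E ∣ 2 ^ 4 := by
    have h := card_wOne_inf C (z := 0) (by norm_num)
    have : centralizer ({(1 : G)} : Set G) = ⊤ :=
      (eq_top_iff' _).2 fun g => mem_centralizer_singleton_iff.2 (by rw [mul_one, one_mul])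
    rw [C.cEl_one, this, inf_top_eq] at h
    rw [h]
    decide +kernel
  exact Nat.Coprime.coprime_dvd_left h16 (by rw [hidx]; norm_num)

end Affine

open Affine in
/-- The vector stabiliser pattern. -/
theorem vector_stabilizer (C : Coords t Q R0 true x y r a b) (hS : Fused t a b x y r [0, 3]) {s : G}
    (hs : ∀ w ∈ wOne t a b x y r, s * w * s⁻¹ ∈ wOne t a b x y r) (hst : s * t * s⁻¹ = cEl t a b x y r 1) :
    (∃ v : Fin 5 → ZMod 2, v ≠ 0 ∧
      Nonempty (G ≃* MulAction.stabilizer (Matrix.SpecialLinearGroup (Fin 5) (ZMod 2)) v)) ∧ ¬ IsSimpleGroup G := by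
  classical
  have htop := normalizer_wOne_eq_top C hS hs hst
  set E := wOne t a b x y r with hE
  haveI hN : E.Normal := Subgroup.normalizer_eq_top_iff.1 htop
  have hS8 : ∀ k ∈ [0, 3], k < 8 := by decide
  have htE : t ∈ E := (mem_wOne C).2 ⟨64, by decide, E_top C⟩
  have hE16 : Nat.card ↥E = 16 := by
    have h := card_wOne_inf C (z := 0) (by norm_num)
    have : centralizer ({(1 : G)} : Set G) = ⊤ :=
      (eq_top_iff' _).2 fun g => mem_centralizer_singleton_iff.2 (by rw [mul_one, one_mul])
    rw [C.cEl_one, this, inf_top_eq] at h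
    rw [hE, h]
    decide +kernel
  have horb : ∀ z : G, IsConj t z ↔ z ∈ (E : Set G) \ {1} := by
    intro z
    constructor
    · intro h
      obtain ⟨g, rfl⟩ := isConj_iff.1 h
      exact ⟨hN.conj_mem _ htE g, fun e => C.frame.t_ne (conj_eq_one_iff.1 e)⟩
    · rintro ⟨hz, hz1⟩
      obtain ⟨c, hc, rfl⟩ := (mem_wOne C).1 hz
      have h := List.all_eq_true.1 w1_check.2.2.1 c hc
      simp only [Bool.or_eq_true, beq_iff_eq] at h
      rcases h with (h | h) | h
      · exact absurd (h ▸ C.cEl_one) hz1
      · exact conj_of_isT C hS hS8 (by simp [isT, h])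
      · exact conj_of_isT C hS hS8 (by simp [isT, h])
  have hidx : (centralizer ({t} : Set G)).index = 15 := by
    have ho : MulAction.orbit (ConjAct G) t = (E : Set G) \ {1} := by
      ext z
      rw [← horb, ConjAct.mem_orbit_conjAct]
      exact ⟨fun h => h.symm, fun h => h.symm⟩
    have hst' : (centralizer ({t} : Set G)).index = (MulAction.stabilizer (ConjAct G) t).index := by
      rw [Subgroup.centralizer_eq_comap_stabilizer]
      exact Subgroup.index_comap_of_surjective _ (ConjAct.toConjAct (G := G)).surjective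
    rw [hst', MulAction.index_stabilizer, ho, Set.ncard_diff_singleton_of_mem (one_mem E), ← Nat.card_coe_set_eq]
    simp only [SetLike.coe_sort_coe, hE16]
  have hcard : Nat.card G = 16 * 20160 := by
    rw [← (centralizer ({t} : Set G)).card_mul_index, C.cardC, hidx]
  obtain ⟨A, hA⟩ := exists_complement C hN hidx
  let f : V4 → G := fun v => cEl t a b x y r (vecCode (vecNum v))
  have hf : ∀ v w, f (v + w) = f v * f w := by
    intro v w
    have h := List.all_eq_true.1 (List.all_eq_true.1 vec_check.1 _ (List.mem_range.2 (vecNum_add v w).2)) _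
      (List.mem_range.2 (vecNum_add w v).2)
    simp only [f]
    rw [(E_mul C (vecCode_lt C _) (vecCode_lt C _)).1, eq_of_beq h, ← (vecNum_add v w).1]
  have finj : Function.Injective f := fun v w h =>
    vecNum_inj v w (C.cEl_inj (vecCode_lt C _) (vecCode_lt C _) h)
  have hEf : ∀ g, g ∈ E ↔ ∃ v, f v = g := fun g => by
    constructor
    · intro hg
      obtain ⟨c, hc, rfl⟩ := (mem_wOne C).1 hg
      obtain ⟨v, rfl⟩ := eList_vec c hc
      exact ⟨v, rfl⟩
    · rintro ⟨v, rfl⟩
      exact (mem_wOne C).2 ⟨_, List.contains_iff_mem.1 (List.all_eq_true.1 vec_check.2 _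
        (List.mem_range.2 (vecNum_add v v).2)), rfl⟩
  obtain ⟨e⟩ := nonempty_equiv E A f hf finj hEf (fun g hg => self_centralising C (hg t htE)
    (fun c hc => hg _ ((mem_wOne C).2 ⟨c, hc, rfl⟩))) hA hcard
  refine ⟨⟨eVec, fun h => ?_, ⟨e⟩⟩, fun hsimp => ?_⟩
  · have := congrFun h 0
    simp [eVec] at this
  · rcases hN.eq_bot_or_eq_top with h | h
    · rw [h, card_bot] at hE16; omega
    · rw [h, card_top, hcard] at hE16; omega

end CfsgLib.HeldTri
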