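import Mathlib

/-!
A group of order 16 · 20160 with a self-centralising elementary normal subgroup of order 16 and a complement is the
stabiliser of a nonzero vector in SL(5, 2).
-/

set_option autoImplicit false
set_option linter.unusedSectionVars false

namespace CfsgLib.HeldTri.Affine

open Matrix

/-- Vectors of length four. -/
abbrev V4 : Type := Fin 4 → ZMod 2

/-- The five-dimensional group. -/
abbrev S5 : Type := Matrix.SpecialLinearGroup (Fin 5) (ZMod 2)

/-- The first vector. -/
def eVec : Fin 5 → ZMod 2 := Pi.single 0 1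

/-- A matrix fixing the first vector. -/
def blk (w : V4) (A : Matrix (Fin 4) (Fin 4) (ZMod 2)) : Matrix (Fin 5) (Fin 5) (ZMod 2) :=
  Matrix.of (Fin.cons (Fin.cons 1 w) fun k => Fin.cons 0 (A k))

theorem det_blk (w : V4) (A : Matrix (Fin 4) (Fin 4) (ZMod 2)) : (blk w A).det = A.det := by
  rw [Matrix.det_succ_column_zero, Fin.sum_univ_succ, Finset.sum_eq_zero]
  · have e : (blk w A).submatrix (Fin.succAbove 0) Fin.succ = A := by
      ext i j
      simp [blk, Fin.succAbove_zero]
    rw [e]
    simp [blk]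
  · intro i _
    simp [blk]

theorem blk_mul (w w' : V4) (A A' : Matrix (Fin 4) (Fin 4) (ZMod 2)) :
    blk w A * blk w' A' = blk (w' + w ᵥ* A') (A * A') := by
  ext i j
  rw [Matrix.mul_apply, Fin.sum_univ_succ]
  refine Fin.cases ?_ (fun k => ?_) i <;> refine Fin.cases ?_ (fun l => ?_) j <;>
    simp [blk, Matrix.vecMul, dotProduct, Matrix.mul_apply]

theorem blk_one : blk 0 1 = 1 := by
  ext i j
  refine Fin.cases ?_ (fun k => ?_) i <;> refine Fin.cases ?_ (fun l => ?_) j <;>
    simp [blk, Matrix.one_apply, Fin.succ_ne_zero, eq_comm]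

theorem det_of_unit {A : Matrix (Fin 4) (Fin 4) (ZMod 2)} (h : IsUnit A.det) : A.det = 1 := by
  rcases (show ∀ a : ZMod 2, a = 0 ∨ a = 1 by decide) A.det with e | e
  · rw [e] at h; simp at h
  · exact e

theorem column_iff (g : S5) : g ∈ MulAction.stabilizer S5 eVec ↔
    ∀ i, (g : Matrix (Fin 5) (Fin 5) (ZMod 2)) i 0 = if i = 0 then 1 else 0 := by
  rw [MulAction.mem_stabilizer_iff]
  constructor
  · intro h i
    have h' : (g : Matrix (Fin 5) (Fin 5) (ZMod 2)) *ᵥ eVec = eVec := h
    have := congrFun h' i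
    simpa [eVec, Pi.single_apply] using this
  · intro h
    show (g : Matrix (Fin 5) (Fin 5) (ZMod 2)) *ᵥ eVec = eVec
    ext i
    simpa [eVec, Pi.single_apply] using h i

theorem card_stab_le : Nat.card ↥(MulAction.stabilizer S5 eVec) ≤ 16 * 20160 := by
  have hblk : ∀ g : ↥(MulAction.stabilizer S5 eVec),
      (g : S5).1 = blk (fun j => (g : S5).1 0 j.succ) (Matrix.of fun i j => (g : S5).1 i.succ j.succ) := by
    intro g
    have h := (column_iff _).1 g.2
    ext i j
    refine Fin.cases ?_ (fun k => ?_) i <;> refine Fin.cases ?_ (fun l => ?_) j <;>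
      simp [blk, h]
  let f : ↥(MulAction.stabilizer S5 eVec) → V4 × GL (Fin 4) (ZMod 2) := fun g =>
    (fun j => (g : S5).1 0 j.succ, GeneralLinearGroup.mkOfDetNeZero (Matrix.of fun i j => (g : S5).1 i.succ j.succ)
      (by
        have := (g : S5).2
        rw [hblk g, det_blk] at this
        rw [this]
        exact one_ne_zero))
  have hf : Function.Injective f := fun g g' h => by
    apply Subtype.ext; apply Subtype.ext
    have h1 := congrArg Prod.fst h
    have h2 := congrArg (fun p => ((Prod.snd p : GL (Fin 4) (ZMod 2)) : Matrix (Fin 4) (Fin 4) (ZMod 2))) h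
    simp only [f] at h1 h2
    rw [hblk g, hblk g', h1]
    exact congrArg _ h2
  refine (Nat.card_le_card_of_injective f hf).trans (le_of_eq ?_)
  rw [Nat.card_prod, Matrix.card_GL_field, Nat.card_fun, Nat.card_zmod, Nat.card_fin]
  simp [Fin.prod_univ_succ, ZMod.card]

variable {G : Type*} [Group G] [Finite G]

/-- Such a group is the vector stabiliser. -/
theorem nonempty_equiv (E A : Subgroup G) [E.Normal] (f : V4 → G) (hf : ∀ v w, f (v + w) = f v * f w)
    (finj : Function.Injective f) (hE : ∀ g, g ∈ E ↔ ∃ v, f v = g)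
    (hself : ∀ g, (∀ e ∈ E, g * e = e * g) → g ∈ E) (hA : Subgroup.IsComplement' E A)
    (hcard : Nat.card G = 16 * 20160) : Nonempty (G ≃* ↥(MulAction.stabilizer S5 eVec)) := by
  classical
  have hfz : f 0 = 1 := by
    have := hf 0 0
    rw [add_zero] at this
    exact left_eq_mul.1 this
  have hfE : ∀ v, f v ∈ E := fun v => (hE _).2 ⟨v, rfl⟩
  choose θ hθ using fun e : ↥E => (hE (e : G)).1 e.2
  have θmul : ∀ e e' : ↥E, θ (e * e') = θ e + θ e' := fun e e' => finj (by rw [hθ, hf, hθ, hθ]; rfl)
  -- the matrices of the action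
  let L : G → V4 → V4 := fun g v => θ ⟨g⁻¹ * f v * g, by
    simpa using (inferInstance : E.Normal).conj_mem _ (hfE v) g⁻¹⟩
  have Lspec : ∀ g v, f (L g v) = g⁻¹ * f v * g := fun g v => hθ _
  have Ladd : ∀ g v w, L g (v + w) = L g v + L g w := fun g v w => finj (by
    rw [hf, Lspec, Lspec, Lspec, hf]; group)
  let mat : G → Matrix (Fin 4) (Fin 4) (ZMod 2) := fun g => Matrix.of fun i => L g (Pi.single i 1)
  have hmat : ∀ g v, v ᵥ* mat g = L g v := by
    intro g v
    have hL0 : L g 0 = 0 := finj (by rw [Lspec, hfz]; group)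
    have hsum : ∀ (s : Finset (Fin 4)) (u : Fin 4 → V4), L g (∑ i ∈ s, u i) = ∑ i ∈ s, L g (u i) := by
      intro s u
      induction s using Finset.induction with
      | empty => simp [hL0]
      | insert a s ha ih => rw [Finset.sum_insert ha, Finset.sum_insert ha, Ladd, ih]
    conv_rhs => rw [← Finset.univ_sum_single v, hsum]
    ext j
    simp only [Matrix.vecMul, dotProduct, Finset.sum_apply, mat, Matrix.of_apply]
    refine Finset.sum_congr rfl fun i _ => ?_
    rcases (show ∀ a : ZMod 2, a = 0 ∨ a = 1 by decide) (v i) with h | h <;> simp [h, hL0]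
  have mat_mul : ∀ g g', mat (g * g') = mat g * mat g' := by
    intro g g'
    have key : ∀ v, v ᵥ* mat (g * g') = v ᵥ* (mat g * mat g') := fun v => by
      rw [← Matrix.vecMul_vecMul, hmat, hmat, hmat]
      exact finj (by rw [Lspec, Lspec, Lspec]; group)
    ext i j
    have := congrFun (key (Pi.single i 1)) j
    simpa [Matrix.vecMul, dotProduct, Pi.single_apply] using this
  have mat_one : mat 1 = 1 := by
    ext i j
    have : L 1 (Pi.single i 1) = Pi.single i 1 := finj (by rw [Lspec]; group)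
    simp [mat, this, Matrix.one_apply, Pi.single_apply, eq_comm]
  have hdet : ∀ g, (mat g).det = 1 := fun g => det_of_unit (IsUnit.of_mul_eq_one (mat g⁻¹).det (by
    rw [← Matrix.det_mul, ← mat_mul, mul_inv_cancel, mat_one, Matrix.det_one]))
  -- the decomposition
  have hbij : Function.Bijective fun p : ↥E × ↥A => (p.1 : G) * p.2 := hA
  let d := Equiv.ofBijective _ hbij
  have hd : ∀ g, ((d.symm g).1 : G) * (d.symm g).2 = g := fun g => d.apply_symm_apply g
  have hdmul : ∀ g g', ((d.symm (g * g')).1 : G) = (d.symm g).1 * ((d.symm g).2 * (d.symm g').1 * ((d.symm g).2 : G)⁻¹) ∧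
      ((d.symm (g * g')).2 : G) = (d.symm g).2 * (d.symm g').2 := by
    intro g g'
    set p : ↥E × ↥A := (⟨(d.symm g).1 * ((d.symm g).2 * (d.symm g').1 * ((d.symm g).2 : G)⁻¹),
      E.mul_mem (d.symm g).1.2 ((inferInstance : E.Normal).conj_mem _ (d.symm g').1.2 _)⟩,
      ⟨(d.symm g).2 * (d.symm g').2, A.mul_mem (d.symm g).2.2 (d.symm g').2.2⟩) with hp
    have : d.symm (g * g') = p := by
      rw [Equiv.symm_apply_eq]
      show g * g' = _
      conv_lhs => rw [← hd g, ← hd g']
      simp only [d, Equiv.ofBijective_apply, hp]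
      group
    rw [this]
    exact ⟨rfl, rfl⟩
  let w : G → V4 := fun g => θ (d.symm g).1 ᵥ* mat ((d.symm g).2 : G)
  let Φ : G → S5 := fun g => ⟨blk (w g) (mat ((d.symm g).2 : G)), by rw [det_blk]; exact hdet _⟩
  have Φmem : ∀ g, Φ g ∈ MulAction.stabilizer S5 eVec := fun g => (column_iff _).2 fun i => by
    refine Fin.cases ?_ (fun k => ?_) i <;> simp [Φ, blk, Fin.succ_ne_zero]
  have Φmul : ∀ g g', Φ (g * g') = Φ g * Φ g' := by
    intro g g'
    obtain ⟨h1, h2⟩ := hdmul g g'
    refine Subtype.ext ?_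
    rw [Matrix.SpecialLinearGroup.coe_mul]
    show blk _ _ = blk _ _ * blk _ _
    rw [blk_mul, h2, mat_mul]
    congr 1
    simp only [w]
    rw [h2, mat_mul, ← Matrix.vecMul_vecMul, Matrix.vecMul_vecMul _ (mat _) (mat _),
      show θ (d.symm (g * g')).1 = θ (d.symm g).1 + L (((d.symm g).2 : G)⁻¹) (θ (d.symm g').1) from finj (by
        rw [hθ, h1, hf, hθ, Lspec, hθ, inv_inv]),
      Matrix.add_vecMul, ← hmat, Matrix.vecMul_vecMul _ (mat _) (mat _ * mat _), ← mat_mul, ← mat_mul,
      inv_mul_cancel_left, mat_mul, add_comm, ← Matrix.vecMul_vecMul]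
  let Ψ : G →* ↥(MulAction.stabilizer S5 eVec) :=
    { toFun := fun g => ⟨Φ g, Φmem g⟩
      map_one' := Subtype.ext (mul_eq_left.1 (show Φ 1 * Φ 1 = Φ 1 by rw [← Φmul, one_mul]))
      map_mul' := fun g g' => Subtype.ext (Φmul g g') }
  have hinj : Function.Injective Ψ := by
    refine (MonoidHom.ker_eq_bot_iff Ψ).1 ((Subgroup.eq_bot_iff_forall _).2 fun g hg => ?_)
    have h : blk (w g) (mat ((d.symm g).2 : G)) = 1 := congrArg (fun z => z.1.1) (MonoidHom.mem_ker.1 hg)
    rw [← blk_one] at h
    have hm : mat ((d.symm g).2 : G) = 1 := by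
      ext i j
      simpa [blk] using congrFun (congrFun h i.succ) j.succ
    have hw : w g = 0 := funext fun j => by simpa [blk] using congrFun (congrFun h 0) j.succ
    have hh : ((d.symm g).2 : G) ∈ E := hself _ fun e he => by
      obtain ⟨v, rfl⟩ := (hE e).1 he
      have := Lspec ((d.symm g).2 : G) v
      rw [← hmat, hm, Matrix.vecMul_one] at this
      calc ((d.symm g).2 : G) * f v = (d.symm g).2 * (((d.symm g).2 : G)⁻¹ * f v * (d.symm g).2) := by rw [← this]
        _ = f v * (d.symm g).2 := by group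
    have h1 : ((d.symm g).2 : G) = 1 := by
      have h := Subgroup.disjoint_def.1 hA.disjoint hh (d.symm g).2.2
      exact h
    simp only [w] at hw
    rw [hm, Matrix.vecMul_one] at hw
    have h0 : ((d.symm g).1 : G) = 1 := by rw [← hθ, hw, hfz]
    rw [← hd g, h0, h1, one_mul]
  refine ⟨MulEquiv.ofBijective Ψ ((Nat.bijective_iff_injective_and_card Ψ).2 ⟨hinj, ?_⟩)⟩
  exact le_antisymm (Nat.card_le_card_of_injective Ψ hinj) (hcard ▸ card_stab_le)

end CfsgLib.HeldTri.Affine
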